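import Cfsg.Agent.Lib.X5.Sh2

/-! The model for `2^{1+4}_-` (helper7). -/

set_option autoImplicit false
set_option maxRecDepth 1000000
set_option maxHeartbeats 0

namespace Cfsg.Lib.X5

open Cfsg.Lib.Calc Cfsg.Lib.Grp Cfsg.Lib.T2 Cfsg.Lib.T3 Cfsg.Lib.ES Subgroup

def cm_L0 : List (ℕ × List ℕ) := [((nat_lit 0), [(nat_lit 0xffbbcdeb38bdab49ca307b9ac5a928398a418820), (nat_lit 0xbdab49ca30ffbbcdeb38398a4188207b9ac5a928), (nat_lit 0x5a9287b9ac9ca30bdab4deb38ffbbc18820398a4), (nat_lit 0x6b3fe4a37a292f608272ef1eece16aad0e68c062), (nat_lit 0xf3d9dd2d19b1c9590c1177f8d56f0935e8514e01), (nat_lit 0x7b9ac5a928398a418820ffbbcdeb38bdab49ca30), (nat_lit 0x662a54f64276ae75fe84472216e6c657a637ee), (nat_lit 0xef1eece16aad0e68c0626b3fe4a37a292f608272), (nat_lit 0x77f8d56f0935e8514e01f3d9dd2d19b1c9590c11), (nat_lit 0xc253a90c74e35beb1cf880432d2d7ca14b6f3df), (nat_lit 0x9ca30bdab45a9287b9ac18820398a4deb38ffbbc),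 (nat_lit 0x292f6082726b3fe4a37aad0e68c062ef1eece16a), (nat_lit 0xb1c9590c11f3d9dd2d1935e8514e0177f8d56f09), (nat_lit 0x398a4188207b9ac5a928bdab49ca30ffbbcdeb38), (nat_lit 0x5a9289ca307b9ac398a4deb3818820ffbbcbdab4), (nat_lit 0x4276ae75fe00662a54f6c657a637ee84472216e6), (nat_lit 0xad0e68c062ef1eece16a292f6082726b3fe4a37a), (nat_lit 0x35e8514e0177f8d56f09b1c9590c11f3d9dd2d19), (nat_lit 0x4e35beb1cf0c253a90c7ca14b6f3df880432d2d7), (nat_lit 0x18820398a4deb38ffbbc9ca30bdab45a9287b9ac), (nat_lit 0x56f0977f8d90c11b1c95d2d19f3d9d14e0135e85), (nat_lit 0x99444721f93c6d05317d1d654f63e9b84c0d736d), (nat_lit 0xd9e4e221a12a790d187f5dc5ea63b1ae58055a6f), (nat_lit 0x4a37a6b3fe8c062ad0e6ce16aef1ee08272292f6), (nat_lit 0xd2d19f3d9d14e0135e8556f0977f8d90c11b1c95), (nat_lit 0x2d2d788043eb1cf4e35ba90c70c2536f3dfca14b), (nat_lit 0xe37cfc274ba16c780643675df4655b254d704453), (nat_lit 0x675df4655b254d704453e37cfc274ba16c780643),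 (nat_lit 0x84472216e6c657a637ee00662a54f64276ae75fe), (nat_lit 0x98a113d885dab197f98d1c801b9a955e909fbb9d), (nat_lit 0xa16c780643e37cfc274b254d704453675df4655b), (nat_lit 0x9bf46600a968698939771fd56e42b9ec48817b67)]),
  ((nat_lit 1), [(nat_lit 0xffbbcdeb38bdab49ca307b9ac5a928398a418820), (nat_lit 0xf63e91d6545317d3c6d0721f999444d736db84c0), (nat_lit 0xefe8629d9e1c7585e6506bc96adf8e98548da440), (nat_lit 0xc53c2bae3d2e67fd5990411d23ec2daa46f51b80), (nat_lit 0x711f51a648b72eddc550f53e59e458330fd58740), (nat_lit 0xa770154edfdc8feab33023511d0ccf58aee2f120), (nat_lit 0x221c25de2dc966f32b90a63d2d9c3d4d47fb6980), (nat_lit 0x435cbb8a246254f1d8b0c77db3c834e675f99aa0), (nat_lit 0x7a1badf32e898642caf0fe3aa5b13e0da74a88e0), (nat_lit 0x691019aacf96ceee1530ed3111e8df12efe65720), (nat_lit 0x439e9a8e446296d0dcd0c7bf92cc54e6b7d89ec0), (nat_lit 0x23d13506cdc88aebb370a7f03d44dd4cabe3f160),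 (nat_lit 0xfd3a63b0be8e878cc970791b6bf2ae0aa6848b60), (nat_lit 0x6b8872998f9076856470efa97adb9f14578d2660), (nat_lit 0x7b4863958e88f484ec50ff696bd79e0cd58cae40), (nat_lit 0xee2819d95f91f7e666b06a09119b4f15d6ee24a0), (nat_lit 0xa7bf548e58e5afd0af50239e5ccc48618ed8ed40), (nat_lit 0x73dbcd6f28b5ea410c30f7fac52d3831cb494e20), (nat_lit 0xc7e93b055d28b3e5f0f043c833474dac92edb2e0), (nat_lit 0xf77fcd6778b56f494670735ec52568314e410460)]),
  ((nat_lit 4), [(nat_lit 0xffbbcdeb38bdab49ca307b9ac5a928398a418820), (nat_lit 0xffa853999d14f3856e307b895bdb8d90d28d2c20), (nat_lit 0x7b9ac398a45a9289ca30ffbbcbdab4deb3818820), (nat_lit 0xffb0990eb45a99db1e307b91914ca4deb8d35c20), (nat_lit 0x7b919deb8d14ca4b1e30ffb095a99d90eb435c20), (nat_lit 0x7b89590d28bdb8d56e30ffa8514f383999dd2c20)])]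

def cm_D0 : List ℕ := [(nat_lit 0), (nat_lit 513), (nat_lit 1025), (nat_lit 1537), (nat_lit 2049), (nat_lit 2561), (nat_lit 5633), (nat_lit 1793), (nat_lit 2305), (nat_lit 5889), (nat_lit 293890), (nat_lit 307714), (nat_lit 321538), (nat_lit 335362), (nat_lit 349698), (nat_lit 365058), (nat_lit 374530), (nat_lit 388354), (nat_lit 405250), (nat_lit 444930), (nat_lit 460802), (nat_lit 476162), (nat_lit 492034), (nat_lit 503554), (nat_lit 518402), (nat_lit 536322), (nat_lit 585730), (nat_lit 601346), (nat_lit 661250), (nat_lit 803330), (nat_lit 991234), (nat_lit 1017346), (nat_lit 0), (nat_lit 3073), (nat_lit 3329), (nat_lit 2168834), (nat_lit 2215426), (nat_lit 2311426), (nat_lit 2409986), (nat_lit 2509826), (nat_lit 2559234), (nat_lit 2716674), (nat_lit 2768130), (nat_lit 2875394), (nat_lit 2985474), (nat_lit 3038466), (nat_lit 3150850), (nat_lit 3205634), (nat_lit 3321346),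 (nat_lit 3376386), (nat_lit 3495426), (nat_lit 3615746), (nat_lit 0), (nat_lit 441784067), (nat_lit 3585), (nat_lit 451021059), (nat_lit 4529666), (nat_lit 89305605892)]

def cm_L1 : List (ℕ × List ℕ) := [((nat_lit 0), [(nat_lit 0xffbbcdeb38bdab49ca307b9ac5a928398a418820), (nat_lit 0xbdab49ca30ffbbcdeb38398a4188207b9ac5a928), (nat_lit 0x5a9287b9ac9ca30bdab4deb38ffbbc18820398a4), (nat_lit 0x6b3fe4a37a292f608272ef1eece16aad0e68c062), (nat_lit 0xf3d9dd2d19b1c9590c1177f8d56f0935e8514e01), (nat_lit 0x7b9ac5a928398a418820ffbbcdeb38bdab49ca30), (nat_lit 0xef1eece16aad0e68c0626b3fe4a37a292f608272), (nat_lit 0x77f8d56f0935e8514e01f3d9dd2d19b1c9590c11), (nat_lit 0x9ca30bdab45a9287b9ac18820398a4deb38ffbbc), (nat_lit 0x292f6082726b3fe4a37aad0e68c062ef1eece16a), (nat_lit 0xb1c9590c11f3d9dd2d1935e8514e0177f8d56f09), (nat_lit 0x398a4188207b9ac5a928bdab49ca30ffbbcdeb38), (nat_lit 0xad0e68c062ef1eece16a292f6082726b3fe4a37a),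 (nat_lit 0x35e8514e0177f8d56f09b1c9590c11f3d9dd2d19), (nat_lit 0x18820398a4deb38ffbbc9ca30bdab45a9287b9ac), (nat_lit 0xce16aef1ee08272292f64a37a6b3fe8c062ad0e6), (nat_lit 0x56f0977f8d90c11b1c95d2d19f3d9d14e0135e85), (nat_lit 0xdeb38ffbbc18820398a45a9287b9ac9ca30bdab4), (nat_lit 0x4a37a6b3fe8c062ad0e6ce16aef1ee08272292f6), (nat_lit 0xd2d19f3d9d14e0135e8556f0977f8d90c11b1c95), (nat_lit 0xe37cfc274ba16c780643675df4655b254d704453), (nat_lit 0x675df4655b254d704453e37cfc274ba16c780643), (nat_lit 0x8272292f6ce16aef1ee8c062ad0e64a37a6b3fe), (nat_lit 0x90c11b1c9556f0977f8d14e0135e85d2d19f3d9d), (nat_lit 0x8c062ad0e64a37a6b3fe08272292f6ce16aef1ee), (nat_lit 0x14e0135e85d2d19f3d9d90c11b1c9556f0977f8d), (nat_lit 0xa16c780643e37cfc274b254d704453675df4655b), (nat_lit 0x254d704453675df4655ba16c780643e37cfc274b), (nat_lit 0x4655b675df80643a16c7c274be37cf04453254d7), (nat_lit 0xc274be37cf04453254d74655b675df80643a16c7),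 (nat_lit 0x80643a16c74655b675df04453254d7c274be37cf), (nat_lit 0x4453254d7c274be37cf80643a16c74655b675df)])]

def cm_D1 : List ℕ := [(nat_lit 0), (nat_lit 513), (nat_lit 1025), (nat_lit 1537), (nat_lit 2049), (nat_lit 2561), (nat_lit 1793), (nat_lit 2305), (nat_lit 101378), (nat_lit 109058), (nat_lit 116738), (nat_lit 124418), (nat_lit 130818), (nat_lit 138498), (nat_lit 164354), (nat_lit 173570), (nat_lit 182274), (nat_lit 190978), (nat_lit 198402), (nat_lit 207106), (nat_lit 241666), (nat_lit 251138), (nat_lit 402946), (nat_lit 417794), (nat_lit 431874), (nat_lit 446722), (nat_lit 493570), (nat_lit 509186), (nat_lit 733186), (nat_lit 754946), (nat_lit 1034242), (nat_lit 1063170)]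

def cm_L2 : List (ℕ × List ℕ) := [((nat_lit 0), [(nat_lit 0xffbbcdeb38bdab49ca307b9ac5a928398a418820), (nat_lit 0x7b9ac5a928398a418820ffbbcdeb38bdab49ca30)])]

def cm_D2 : List ℕ := [(nat_lit 0), (nat_lit 513)]

def cm_L3 : List (ℕ × List ℕ) := [((nat_lit 0), [(nat_lit 0xffbbcdeb38bdab49ca307b9ac5a928398a418820), (nat_lit 0xbdab49ca30ffbbcdeb38398a4188207b9ac5a928), (nat_lit 0x5a9287b9ac9ca30bdab4deb38ffbbc18820398a4), (nat_lit 0x6b3fe4a37a292f608272ef1eece16aad0e68c062), (nat_lit 0xf3d9dd2d19b1c9590c1177f8d56f0935e8514e01), (nat_lit 0x7b9ac5a928398a418820ffbbcdeb38bdab49ca30), (nat_lit 0x662a54f64276ae75fe84472216e6c657a637ee), (nat_lit 0xef1eece16aad0e68c0626b3fe4a37a292f608272), (nat_lit 0x77f8d56f0935e8514e01f3d9dd2d19b1c9590c11), (nat_lit 0xc253a90c74e35beb1cf880432d2d7ca14b6f3df), (nat_lit 0x9ca30bdab45a9287b9ac18820398a4deb38ffbbc), (nat_lit 0x292f6082726b3fe4a37aad0e68c062ef1eece16a),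 (nat_lit 0xb1c9590c11f3d9dd2d1935e8514e0177f8d56f09), (nat_lit 0x398a4188207b9ac5a928bdab49ca30ffbbcdeb38), (nat_lit 0x5a9289ca307b9ac398a4deb3818820ffbbcbdab4), (nat_lit 0x4276ae75fe00662a54f6c657a637ee84472216e6), (nat_lit 0xad0e68c062ef1eece16a292f6082726b3fe4a37a), (nat_lit 0x35e8514e0177f8d56f09b1c9590c11f3d9dd2d19), (nat_lit 0x4e35beb1cf0c253a90c7ca14b6f3df880432d2d7), (nat_lit 0x18820398a4deb38ffbbc9ca30bdab45a9287b9ac), (nat_lit 0x56f0977f8d90c11b1c95d2d19f3d9d14e0135e85), (nat_lit 0xd9e4e221a12a790d187f5dc5ea63b1ae58055a6f), (nat_lit 0x4a37a6b3fe8c062ad0e6ce16aef1ee08272292f6), (nat_lit 0xd2d19f3d9d14e0135e8556f0977f8d90c11b1c95), (nat_lit 0x2d2d788043eb1cf4e35ba90c70c2536f3dfca14b), (nat_lit 0xe37cfc274ba16c780643675df4655b254d704453), (nat_lit 0x1c801b9a955e909fbb9d98a113d885dab197f98d), (nat_lit 0x675df4655b254d704453e37cfc274ba16c780643), (nat_lit 0x84472216e6c657a637ee00662a54f64276ae75fe),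 (nat_lit 0x98a113d885dab197f98d1c801b9a955e909fbb9d), (nat_lit 0xa16c780643e37cfc274b254d704453675df4655b), (nat_lit 0x9bf46600a968698939771fd56e42b9ec48817b67)]),
  ((nat_lit 4), [(nat_lit 0xffbbcdeb38bdab49ca307b9ac5a928398a418820), (nat_lit 0x411b1bac4e3686fcd590c53a13ee5eb2a7f49780), (nat_lit 0x7b9ac398a45a9289ca30ffbbcbdab4deb3818820), (nat_lit 0x221a155a6fd9e4e2a790a63b1d187f5dc5eae580), (nat_lit 0xf7fac31cb452d3810c3073dbcb5ea4d6f2894e20), (nat_lit 0xa63b15dc5ed187f2a790221a1d9e4e55a6fae580), (nat_lit 0xc53a1b2a7f3ee5ecd590411b13686fbac4e49780), (nat_lit 0x73dbcd6f28b5ea410c30f7fac52d3831cb494e20)])]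

def cm_D3 : List ℕ := [(nat_lit 0), (nat_lit 513), (nat_lit 1025), (nat_lit 1537), (nat_lit 2049), (nat_lit 2561), (nat_lit 3585), (nat_lit 1793), (nat_lit 2305), (nat_lit 3841), (nat_lit 195586), (nat_lit 206338), (nat_lit 217090), (nat_lit 227842), (nat_lit 238594), (nat_lit 249346), (nat_lit 257794), (nat_lit 268546), (nat_lit 280322), (nat_lit 315906), (nat_lit 328706), (nat_lit 342018), (nat_lit 350978), (nat_lit 362754), (nat_lit 375554), (nat_lit 419842), (nat_lit 433666), (nat_lit 444674), (nat_lit 496386), (nat_lit 626178), (nat_lit 800770), (nat_lit 823298), (nat_lit 0), (nat_lit 54539523), (nat_lit 3073), (nat_lit 40040195), (nat_lit 15738998020), (nat_lit 1981442), (nat_lit 18354388228), (nat_lit 2214914)]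

def cm_L4 : List (ℕ × List ℕ) := [((nat_lit 0), [(nat_lit 0xffbbcdeb38bdab49ca307b9ac5a928398a418820), (nat_lit 0xbdab49ca30ffbbcdeb38398a4188207b9ac5a928), (nat_lit 0x5a9287b9ac9ca30bdab4deb38ffbbc18820398a4), (nat_lit 0x6b3fe4a37a292f608272ef1eece16aad0e68c062), (nat_lit 0xf3d9dd2d19b1c9590c1177f8d56f0935e8514e01), (nat_lit 0x7b9ac5a928398a418820ffbbcdeb38bdab49ca30), (nat_lit 0xef1eece16aad0e68c0626b3fe4a37a292f608272), (nat_lit 0x77f8d56f0935e8514e01f3d9dd2d19b1c9590c11), (nat_lit 0x9ca30bdab45a9287b9ac18820398a4deb38ffbbc), (nat_lit 0x292f6082726b3fe4a37aad0e68c062ef1eece16a), (nat_lit 0xb1c9590c11f3d9dd2d1935e8514e0177f8d56f09), (nat_lit 0x398a4188207b9ac5a928bdab49ca30ffbbcdeb38), (nat_lit 0x19a3438ab0ee3facf37e9d824bc8a06a1ea4b16e), (nat_lit 0xad0e68c062ef1eece16a292f6082726b3fe4a37a), (nat_lit 0x35e8514e0177f8d56f09b1c9590c11f3d9dd2d19), (nat_lit 0x18820398a4deb38ffbbc9ca30bdab45a9287b9ac),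 (nat_lit 0xce16aef1ee08272292f64a37a6b3fe8c062ad0e6), (nat_lit 0x56f0977f8d90c11b1c95d2d19f3d9d14e0135e85), (nat_lit 0xdeb38ffbbc18820398a45a9287b9ac9ca30bdab4), (nat_lit 0x99444721f93c6d05317d1d654f63e9b84c0d736d), (nat_lit 0x4a37a6b3fe8c062ad0e6ce16aef1ee08272292f6), (nat_lit 0xd2d19f3d9d14e0135e8556f0977f8d90c11b1c95), (nat_lit 0xe37cfc274ba16c780643675df4655b254d704453), (nat_lit 0x675df4655b254d704453e37cfc274ba16c780643), (nat_lit 0x8272292f6ce16aef1ee8c062ad0e64a37a6b3fe), (nat_lit 0x90c11b1c9556f0977f8d14e0135e85d2d19f3d9d), (nat_lit 0xa16c780643e37cfc274b254d704453675df4655b), (nat_lit 0x254d704453675df4655ba16c780643e37cfc274b), (nat_lit 0x520711017925bbfe38a7d626194369a19af67ab7), (nat_lit 0x15c1534c91667cb4774f91e05b0e81e25dbc355f), (nat_lit 0x91e05b0e81e25dbc355f15c1534c91667cb4774f), (nat_lit 0xd626194369a19af67ab7520711017925bbfe38a7)]),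
  ((nat_lit 1), [(nat_lit 0xffbbcdeb38bdab49ca307b9ac5a928398a418820), (nat_lit 0xf63e91d6545317d3c6d0721f999444d736db84c0), (nat_lit 0xee3facf37e19a3438ab06a1ea4b16e9d824bc8a0), (nat_lit 0xefe8629d9e1c7585e6506bc96adf8e98548da440), (nat_lit 0xc53c2bae3d2e67fd5990411d23ec2daa46f51b80), (nat_lit 0xc7babbc4546293f9d4d0439bb38644e6b2f196c0), (nat_lit 0xfd3d592478bf2ddd0570791c5166683b0cd54760), (nat_lit 0xa7ba7618bfd86589a750239b7e5aaf5c4481e540), (nat_lit 0xff6960cd58bd79e4ec507b48688f483958ecae40), (nat_lit 0xa770154edfdc8feab33023511d0ccf58aee2f120), (nat_lit 0xf53121a6bf0ecfde1950711029e4af8aeed65b40), (nat_lit 0xa63f35583dc945e3af90221e3d1a2d4d64ebed80), (nat_lit 0xf7e951c938b5f9d5e83073c8598b2831d8ddaa20), (nat_lit 0xf770b88af45259fa9a707351b0c8e4d678f2d860), (nat_lit 0xed31112efe1e8dfe15306910196cee9aacf65720), (nat_lit 0xc7e93b055d28b3e5f0f043c833474dac92edb2e0), (nat_lit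 0xa7fc561cddc8a788ab7023dd5e5ecd4c8680e960), (nat_lit 0xc7691b897e30f5f4f0b0434813cb6eb4d4fcb2a0), (nat_lit 0xfe3d9df35d11674306f07a1c95b14d95464b44e0), (nat_lit 0xefb1bceb9f904f4b14706b90b4a98f146e435660)]),
  ((nat_lit 2), [(nat_lit 0xffbbcdeb38bdab49ca307b9ac5a928398a418820), (nat_lit 0xffa853999d14f3856e307b895bdb8d90d28d2c20), (nat_lit 0xffb0990eb45a99db1e307b91914ca4deb8d35c20)])]

def cm_D4 : List ℕ := [(nat_lit 0), (nat_lit 513), (nat_lit 1025), (nat_lit 1537), (nat_lit 2049), (nat_lit 2561), (nat_lit 1793), (nat_lit 2305), (nat_lit 148482), (nat_lit 158210), (nat_lit 167938), (nat_lit 177666), (nat_lit 187906), (nat_lit 195330), (nat_lit 205058), (nat_lit 236034), (nat_lit 247298), (nat_lit 258050), (nat_lit 268802), (nat_lit 279554), (nat_lit 288514), (nat_lit 299266), (nat_lit 339970), (nat_lit 351490), (nat_lit 525826), (nat_lit 542722), (nat_lit 593922), (nat_lit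 611586), (nat_lit 630018), (nat_lit 759810), (nat_lit 780546), (nat_lit 841986), (nat_lit 0), (nat_lit 3073), (nat_lit 3585), (nat_lit 3329), (nat_lit 1850370), (nat_lit 1892866), (nat_lit 1981442), (nat_lit 2024706), (nat_lit 2117122), (nat_lit 2160898), (nat_lit 2256386), (nat_lit 2353154), (nat_lit 2399490), (nat_lit 2499586), (nat_lit 2547202), (nat_lit 2650370), (nat_lit 2813442), (nat_lit 2921474), (nat_lit 2972930), (nat_lit 3386370), (nat_lit 0), (nat_lit 366190851), (nat_lit 409808131)]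

def cm_L5 : List (ℕ × List ℕ) := [((nat_lit 1), [(nat_lit 0xffbbcdeb38bdab49ca307b9ac5a928398a418820), (nat_lit 0xf63e91d6545317d3c6d0721f999444d736db84c0), (nat_lit 0xefe8629d9e1c7585e6506bc96adf8e98548da440), (nat_lit 0xc53c2bae3d2e67fd5990411d23ec2daa46f51b80), (nat_lit 0xa770154edfdc8feab33023511d0ccf58aee2f120)])]

def cm_D5 : List ℕ := [(nat_lit 0), (nat_lit 513), (nat_lit 769), (nat_lit 15874), (nat_lit 25346)]

def cm : PM :=
  ⟨(nat_lit 32), (nat_lit 5), [(nat_lit 0xbdab49ca30ffbbcdeb38398a4188207b9ac5a928), (nat_lit 0x5a9287b9ac9ca30bdab4deb38ffbbc18820398a4), (nat_lit 0x6b3fe4a37a292f608272ef1eece16aad0e68c062), (nat_lit 0xf3d9dd2d19b1c9590c1177f8d56f0935e8514e01), (nat_lit 0x7b9ac5a928398a418820ffbbcdeb38bdab49ca30), (nat_lit 0xf63e91d6545317d3c6d0721f999444d736db84c0), (nat_lit 0x7b9ac398a45a9289ca30ffbbcbdab4deb3818820), (nat_lit 0xee3facf37e19a3438ab06a1ea4b16e9d824bc8a0),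 (nat_lit 0xa63b15dc5ed187f2a790221a1d9e4e55a6fae580), (nat_lit 0xffbbcdeb38bdab49ca307b9ac5a928398a418820), (nat_lit 0xffbbcdeb38bdab49ca307b9ac5a928398a418820), (nat_lit 0xffbbcdeb38bdab49ca307b9ac5a928398a418820), (nat_lit 0xffbbcdeb38bdab49ca307b9ac5a928398a418820), (nat_lit 0x7b9ac398a45a9289ca30ffbbcbdab4deb3818820), (nat_lit 0x662a54f64276ae75fe84472216e6c657a637ee)],
    [[.l 1, .l 2, .l 3, .l 4, .l 5, .l 6, .l 7, .l 8, .l 9, .l 14, .l 15],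
    [.l 1, .l 2, .l 3, .l 4, .l 5],
    [.l 5],
    [.l 1, .l 2, .l 3, .l 4, .l 5, .l 14, .l 15, .l 9],
    [.l 1, .l 2, .l 3, .l 4, .l 5, .l 6, .l 8],
    [.l 6]],
    [cm_L0, cm_L1, cm_L2, cm_L3, cm_L4, cm_L5], [cm_D0, cm_D1, cm_D2, cm_D3, cm_D4, cm_D5]⟩

instance cm_ne : NeZero cm.n := ⟨by decide⟩

theorem cm_ok0 : cm.ok0 = true := by decide +kernel

theorem cm_k0 : allFrom (nat_lit 0) (nat_lit 1) cm.okK = true := by decide +kernel

theorem cm_k1 : allFrom (nat_lit 1) (nat_lit 1) cm.okK = true := by decide +kernel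

theorem cm_k2 : allFrom (nat_lit 2) (nat_lit 1) cm.okK = true := by decide +kernel

theorem cm_k3 : allFrom (nat_lit 3) (nat_lit 1) cm.okK = true := by decide +kernel

theorem cm_k4 : allFrom (nat_lit 4) (nat_lit 1) cm.okK = true := by decide +kernel

theorem cm_k5 : allFrom (nat_lit 5) (nat_lit 1) cm.okK = true := by decide +kernel

theorem cm_ok : cm.OK := PM.OK.of_check cm_ok0
  (of_allFrom_append (of_allFrom_append (of_allFrom_append (of_allFrom_append (of_allFrom_append (of_allFrom_append of_lt_zero cm_k0) cm_k1) cm_k2) cm_k3) cm_k4) cm_k5)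

theorem cm_card0 : Nat.card (genW cm.gam (cm.ws 0)) = 3840 := (cm_ok.card 0).trans (by decide +kernel)

theorem cm_card1 : Nat.card (genW cm.gam (cm.ws 1)) = 32 := (cm_ok.card 1).trans (by decide +kernel)

theorem cm_card2 : Nat.card (genW cm.gam (cm.ws 2)) = 2 := (cm_ok.card 2).trans (by decide +kernel)

theorem cm_card3 : Nat.card (genW cm.gam (cm.ws 3)) = 256 := (cm_ok.card 3).trans (by decide +kernel)

theorem cm_card4 : Nat.card (genW cm.gam (cm.ws 4)) = 1920 := (cm_ok.card 4).trans (by decide +kernel)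

theorem cm_card5 : Nat.card (genW cm.gam (cm.ws 5)) = 5 := (cm_ok.card 5).trans (by decide +kernel)

theorem cm_sq : ∀ g ∈ cm.K 1, g * g = 1 ∨ g * g = cm.gam 5 :=
  cm_ok.holds (φ := .all 1 40 [] (.or (.one (.mul (.l 40) (.l 40))) (.eq (.mul (.l 40) (.l 40)) (.l 5)))) (by decide +kernel)

theorem cm_cen : ∀ g ∈ cm.K 0, g * cm.gam 1 = cm.gam 1 * g → g * cm.gam 2 = cm.gam 2 * g → g * cm.gam 3 = cm.gam 3 * g → g * cm.gam 4 = cm.gam 4 * g → g = 1 ∨ g = cm.gam 5 :=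
  cm_ok.holds (φ := .all 0 40 [(.l 1, .l 1), (.l 2, .l 2), (.l 3, .l 3), (.l 4, .l 4)] (.or (.one (.l 40)) (.eq (.l 40) (.l 5)))) (by decide +kernel)

theorem cmS : Gf cm cm.gam 0 [] := Gf.of_isoW cm_ok (IsoW.refl _) 0

theorem cm_mx : MX cm :=
  ⟨cm_ok, Xs.of_checks cmS.mem cmS.ne cmS.eq cmS.cen cm_sq cmS.le (cmS.norm 0 1)
    (fun x hx h => cm_cen x hx (h _ cmS.mem).symm (h _ cmS.mem).symm (h _ cmS.mem).symm (h _ cmS.mem).symm)
    (by rw [PM.K, cm_card1]; decide), rfl, genW_one' _ _⟩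

variable {G : Type*} [Group G] {H Q : Subgroup G} {z : G} {γ : ℕ → G} {N : List W}
  {Δ : Subgroup (G × Equiv.Perm (Fin cm.n))}

theorem cm_f4 (h : PA cm H Q z Δ) :
    ∀ t ∈ Q, t * t = 1 → t ∉ zpowers z → ∃ g ∈ Q, g * t = t * g ∧ (g ∉ zpowers z ∧ g * t ∉ zpowers z) ∧ (∃ h ∈ Q, h * t = t * h ∧ (h ∉ zpowers z ∧ h * t ∉ zpowers z) ∧ g * h ∉ zpowers z ∧ g * h * t ∉ zpowers z) := by
  obtain ⟨γ, L, rfl⟩ := h.exists_lt
  exact L.tr (φ := .all 1 40 [] (.imp (.one (.mul (.l 40) (.l 40))) (.imp (.not (.mem 2 (.l 40))) (.ex 1 41 [(.l 40, .l 40)] (.and (.and (.not (.mem 2 (.l 41))) (.not (.mem 2 (.mul (.l 41) (.l 40))))) (.ex 1 42 [(.l 40, .l 40)] (.and (.and (.not (.mem 2 (.l 42))) (.not (.mem 2 (.mul (.l 42) (.l 40))))) (.and (.not (.mem 2 (.mul (.l 41) (.l 42)))) (.not (.mem 2 (.mul (.mul (.l 41) (.l 42)) (.l 40)))))))))))) (by decide +kernel)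

theorem cm_fe (h : PA cm H Q z Δ) :
    ∀ t ∈ Q, t * t = 1 → t ∉ zpowers z → ∀ e ∈ Q, e * t = t * e → e * e = 1 → e ∉ zpowers z → e * t ∉ zpowers z → ∃ u ∈ Q, u * t = t * u ∧ u * u = 1 ∧ u * e ≠ e * u := by
  obtain ⟨γ, L, rfl⟩ := h.exists_lt
  exact L.tr (φ := .all 1 40 [] (.imp (.one (.mul (.l 40) (.l 40))) (.imp (.not (.mem 2 (.l 40))) (.all 1 41 [(.l 40, .l 40)] (.imp (.one (.mul (.l 41) (.l 41))) (.imp (.not (.mem 2 (.l 41))) (.imp (.not (.mem 2 (.mul (.l 41) (.l 40)))) (.ex 1 42 [(.l 40, .l 40)] (.and (.one (.mul (.l 42) (.l 42))) (.not (.eq (.mul (.l 42) (.l 41)) (.mul (.l 41) (.l 42))))))))))))) (by decide +kernel)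

theorem cm_fn (h : PA cm H Q z Δ) :
    ∀ g ∈ H, g * g ∈ zpowers z → g ∉ sh cm H Q z Δ 4 → ∀ t ∈ Q, t * g = g * t → t * t = 1 → t ∉ zpowers z → ∃ h ∈ Q, h * t = t * h ∧ (g * h * g⁻¹ * h⁻¹) ^ 2 ≠ 1 := by
  obtain ⟨γ, L, rfl⟩ := h.exists_lt
  exact L.tr (φ := .all 0 40 [] (.imp (.mem 2 (.mul (.l 40) (.l 40))) (.imp (.not (.mem 4 (.l 40))) (.all 1 41 [(.l 40, .l 40)] (.imp (.one (.mul (.l 41) (.l 41))) (.imp (.not (.mem 2 (.l 41))) (.ex 1 42 [(.l 41, .l 41)] (.not (.one (.pow (.mul (.mul (.mul (.l 40) (.l 42)) (.inv (.l 40))) (.inv (.l 42))) 2)))))))))) (by decide +kernel)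

theorem cm_fp (h : PA cm H Q z Δ) :
    ∀ g ∈ H, g * g ∈ zpowers z → g ∉ sh cm H Q z Δ 4 → ∃ u ∈ Q, u * g = g * u ∧ u * u = z := by
  obtain ⟨γ, L, rfl⟩ := h.exists_lt
  exact L.tr (φ := .all 0 40 [] (.imp (.mem 2 (.mul (.l 40) (.l 40))) (.imp (.not (.mem 4 (.l 40))) (.ex 1 41 [(.l 40, .l 40)] (.eq (.mul (.l 41) (.l 41)) (.l 5)))))) (by decide +kernel)

theorem cm_fm (h : PA cm H Q z Δ) :
    ∀ g ∈ sh cm H Q z Δ 4, g * g ∈ zpowers z → g ∉ Q → ∃ u ∈ Q, u * g = g * u ∧ u * u = 1 ∧ u ∉ zpowers z ∧ (∃ h ∈ Q, h * g = g * u * h ∧ True) ∧ (∃ h ∈ Q, h * g = g * (u * z) * h ∧ True) := by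
  obtain ⟨γ, L, rfl⟩ := h.exists_lt
  exact L.tr (φ := .all 4 40 [] (.imp (.mem 2 (.mul (.l 40) (.l 40))) (.imp (.not (.mem 1 (.l 40))) (.ex 1 41 [(.l 40, .l 40)] (.and (.one (.mul (.l 41) (.l 41))) (.and (.not (.mem 2 (.l 41))) (.and (.ex 1 42 [(.l 40, .mul (.l 40) (.l 41))] (.tt)) (.ex 1 42 [(.l 40, .mul (.l 40) (.mul (.l 41) (.l 5)))] (.tt))))))))) (by decide +kernel)

theorem cm_fx (h : PA cm H Q z Δ) : Fx H Q (sh cm H Q z Δ 4) (sh cm H Q z Δ 4) z :=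
  ⟨cm_f4 h, cm_fe h, cm_fn h, cm_fp h, cm_fm h⟩

theorem cm_f0 (h : PA cm H Q z Δ) :
    ∀ g ∈ sh cm H Q z Δ 3, g ^ 4 ∈ Q := by
  obtain ⟨γ, L, rfl⟩ := h.exists_lt
  exact L.tr (φ := .all 3 40 [] (.mem 1 (.pow (.l 40) 4))) (by decide +kernel)

theorem cm_f2 (h : PA cm H Q z Δ) :
    ∀ g ∈ sh cm H Q z Δ 3, g ^ 4 ∉ zpowers z → ∀ h ∈ sh cm H Q z Δ 3, h * h ∈ zpowers z → h ∈ sh cm H Q z Δ 4 → h * g * h⁻¹ * g⁻¹ ∈ zpowers z → h ∈ zpowers z ∨ h * g ^ 4 ∈ zpowers z := by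
  obtain ⟨γ, L, rfl⟩ := h.exists_lt
  exact L.tr (φ := .all 3 40 [] (.lt 41 (.pow (.l 40) 4) (.imp (.not (.mem 2 (.l 41))) (.all 3 42 [] (.imp (.mem 2 (.mul (.l 42) (.l 42))) (.imp (.mem 4 (.l 42)) (.imp (.mem 2 (.mul (.mul (.mul (.l 42) (.l 40)) (.inv (.l 42))) (.inv (.l 40)))) (.or (.mem 2 (.l 42)) (.mem 2 (.mul (.l 42) (.l 41))))))))))) (by decide +kernel)

theorem cm_e (h : PA cm H Q z Δ) :
    ∀ t ∈ Q, t * t = 1 → ∀ e ∈ Q, e * t = t * e → e * e = 1 → t ∈ zpowers z ∨ e ∈ zpowers z ∨ e * t ∈ zpowers z := by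
  obtain ⟨γ, L, rfl⟩ := h.exists_lt
  exact L.tr (φ := .all 1 40 [] (.imp (.one (.mul (.l 40) (.l 40))) (.all 1 41 [(.l 40, .l 40)] (.imp (.one (.mul (.l 41) (.l 41))) (.or (.mem 2 (.l 40)) (.or (.mem 2 (.l 41)) (.mem 2 (.mul (.l 41) (.l 40))))))))) (by decide +kernel)

/-- a formula -/
def cm_fpf_f : Fm := .all 1 40 [] (.ex 1 41 [] (.mem 2 (.mul (.mul (.mul (.mul (.l 6) (.l 41)) (.inv (.l 6))) (.inv (.l 41))) (.inv (.l 40)))))

theorem cm_fpf_ev : cm.eval cm_fpf_f = true := by decide +kernel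

theorem cm_fpf (L : LT cm H Q Δ γ N) (e : tpB cm N cm_fpf_f = true := by decide +kernel) :
    ∀ e ∈ Q, ∃ h ∈ Q, γ 6 * h * (γ 6)⁻¹ * h⁻¹ * e⁻¹ ∈ zpowers (γ 5) :=
  L.transfer e cm_fpf_ev

/-- a formula -/
def cm_3_f : Fm := .all 0 40 [] (.imp (.mem 1 (.mul (.l 40) (.l 40))) (.imp (.not (.mem 1 (.l 40))) (.or (.and (.mem 1 (.mul (.mul (.mul (.l 40) (.l 6)) (.inv (.l 40))) (.l 6))) (.mem 4 (.l 40))) (.or (.lt 41 (.pow (.mul (.l 40) (.pow (.l 6) 1)) 2) (.and (.not (.mem 1 (.l 41))) (.mem 1 (.pow (.l 41) 3)))) (.or (.lt 41 (.pow (.mul (.l 40) (.pow (.l 6) 2)) 2) (.and (.not (.mem 1 (.l 41))) (.mem 1 (.pow (.l 41) 3)))) (.or (.lt 41 (.pow (.mul (.l 40) (.pow (.l 6) 3)) 2) (.and (.not (.mem 1 (.l 41))) (.mem 1 (.pow (.l 41) 3)))) (.lt 41 (.pow (.mul (.l 40) (.pow (.l 6) 4)) 2) (.and (.not (.mem 1 (.l 41))) (.mem 1 (.pow (.l 41) 3))))))))))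

theorem cm_3_ev : cm.eval cm_3_f = true := by decide +kernel

theorem cm_3 (L : LT cm H Q Δ γ N) (e : tpB cm N cm_3_f = true := by decide +kernel) :
    ∀ g ∈ H, g * g ∈ Q → g ∉ Q → g * γ 6 * g⁻¹ * γ 6 ∈ Q ∧ g ∈ sh cm H Q (γ 5) Δ 4 ∨ (g * γ 6 ^ 1) ^ 2 ∉ Q ∧ ((g * γ 6 ^ 1) ^ 2) ^ 3 ∈ Q ∨ (g * γ 6 ^ 2) ^ 2 ∉ Q ∧ ((g * γ 6 ^ 2) ^ 2) ^ 3 ∈ Q ∨ (g * γ 6 ^ 3) ^ 2 ∉ Q ∧ ((g * γ 6 ^ 3) ^ 2) ^ 3 ∈ Q ∨ (g * γ 6 ^ 4) ^ 2 ∉ Q ∧ ((g * γ 6 ^ 4) ^ 2) ^ 3 ∈ Q :=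
  L.transfer e cm_3_ev

end Cfsg.Lib.X5
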